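import Mathlib

set_option autoImplicit false
universe u

namespace Groth.Agent.Lib.Helper5.FunEq
open PowerSeries

theorem hasSubst_X_add {S : Type*} [CommRing S] (y : S⟦X⟧) (hy : y ^ 2 = 0) :
    HasSubst (X + y : S⟦X⟧) := by
  change IsNilpotent (MvPowerSeries.constantCoeff (X + y : S⟦X⟧))
  refine ⟨2, ?_⟩
  rw [← map_pow]
  have : (X + y : S⟦X⟧) ^ 2 = X * (X + 2 * y) := by
    have : (X + y : S⟦X⟧) ^ 2 = X ^ 2 + 2 * X * y + y ^ 2 := by ring
    rw [this, hy]; ring
  rw [this, map_mul]
  have : MvPowerSeries.constantCoeff (X : S⟦X⟧) = 0 := PowerSeries.constantCoeff_X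
  rw [this, zero_mul]

/-- first order Taylor expansion for power series substitution -/
theorem taylor_sq_zero {S : Type*} [CommRing S] (P y : S⟦X⟧) (hy : y ^ 2 = 0) :
    P.subst (X + y) = P + d⁄dX S P * y := by
  have hg := hasSubst_X_add y hy
  ext n
  obtain ⟨m₀, hm₀⟩ := (hg.eventually_coeff_pow_eq_zero n).exists_forall_of_atTop
  set m := max m₀ (n + 1) with hm
  have hmge : ∀ d, m ≤ d → coeff n ((X + y : S⟦X⟧) ^ d) = 0 := fun d hd =>
    hm₀ d (le_trans (le_max_left _ _) hd) n le_rfl
  have h1 : coeff n (P.subst (X + y)) = coeff n ((↑(trunc (m + 1) P) : S⟦X⟧).subst (X + y)) := by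
    rw [coeff_subst' hg, coeff_subst' hg]
    refine finsum_congr fun d ↦ ?_
    obtain hd | hd := lt_or_ge d m
    · rw [coeff_coe_trunc_of_lt (by omega)]
    · rw [hmge d hd, smul_zero, smul_zero]
  rw [h1, subst_coe hg, Polynomial.aeval_add_of_sq_eq_zero _ _ _ hy]
  have hX : ∀ p : Polynomial S, Polynomial.aeval (X : S⟦X⟧) p = (p : S⟦X⟧) := by
    intro p
    rw [← subst_coe HasSubst.X', X_subst]
  rw [hX, hX, ← derivative_coe, map_add, map_add, coeff_coe_trunc_of_lt (by omega), coeff_mul,
    coeff_mul]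
  congr 1
  refine Finset.sum_congr rfl fun ⟨i, j⟩ hij ↦ ?_
  rw [Finset.HasAntidiagonal.mem_antidiagonal] at hij
  simp only at hij
  congr 1
  rw [coeff_derivative, coeff_derivative, coeff_coe_trunc_of_lt (by omega)]


section Spec

variable {R : Type} [CommRing R] {T : Type} [CommRing T] [Algebra R T]

/-- substituting power series into the two-variable functional equation -/
theorem spec_FE (F : PowerSeries R)
    (hFE : PowerSeries.subst
        (MvPowerSeries.X (0 : Fin 2) + MvPowerSeries.X 1 * PowerSeries.subst (MvPowerSeries.X (0 : Fin 2)) F :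
          MvPowerSeries (Fin 2) R) F =
      PowerSeries.subst (MvPowerSeries.X (0 : Fin 2)) F * PowerSeries.subst (MvPowerSeries.X (1 : Fin 2)) F)
    (b : Fin 2 → PowerSeries T) (hb : ∀ i, HasSubst (b i)) :
    PowerSeries.subst (b 0 + b 1 * PowerSeries.subst (b 0) F) F =
      PowerSeries.subst (b 0) F * PowerSeries.subst (b 1) F := by
  have hb' : MvPowerSeries.HasSubst b := MvPowerSeries.hasSubst_of_constantCoeff_nilpotent hb
  have hX : ∀ i : Fin 2, HasSubst (MvPowerSeries.X i : MvPowerSeries (Fin 2) R) := fun i =>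
    HasSubst.X i
  have key : ∀ i : Fin 2, MvPowerSeries.subst b (PowerSeries.subst (MvPowerSeries.X i :
      MvPowerSeries (Fin 2) R) F) = PowerSeries.subst (b i) F := by
    intro i
    rw [PowerSeries.subst_def, MvPowerSeries.subst_comp_subst_apply (hX i).const hb',
      PowerSeries.subst_def]
    congr 1
    funext _
    rw [MvPowerSeries.subst_X hb']
  have hG : HasSubst (MvPowerSeries.X (0 : Fin 2) + MvPowerSeries.X 1 *
      PowerSeries.subst (MvPowerSeries.X (0 : Fin 2)) F : MvPowerSeries (Fin 2) R) :=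
    HasSubst.add (hX 0) (HasSubst.mul_left (hX 1))
  have h := congrArg (MvPowerSeries.subst b) hFE
  rw [MvPowerSeries.subst_mul hb', key, key] at h
  have h2 : MvPowerSeries.subst b (PowerSeries.subst (MvPowerSeries.X (0 : Fin 2) +
      MvPowerSeries.X 1 * PowerSeries.subst (MvPowerSeries.X (0 : Fin 2)) F :
        MvPowerSeries (Fin 2) R) F) =
      PowerSeries.subst (b 0 + b 1 * PowerSeries.subst (b 0) F) F := by
    rw [PowerSeries.subst_def (MvPowerSeries.X (0 : Fin 2) +
      MvPowerSeries.X 1 * PowerSeries.subst (MvPowerSeries.X (0 : Fin 2)) F :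
        MvPowerSeries (Fin 2) R) F, MvPowerSeries.subst_comp_subst_apply hG.const hb',
      PowerSeries.subst_def (b 0 + b 1 * PowerSeries.subst (b 0) F) F]
    congr 1
    funext _
    rw [MvPowerSeries.subst_add hb', MvPowerSeries.subst_mul hb', MvPowerSeries.subst_X hb',
      MvPowerSeries.subst_X hb', key]
  rw [← h2]
  exact h

end Spec


section Dual

variable {R : Type} [CommRing R]

local notation "S" => DualNumber R
local notation "ε" => (DualNumber.eps : DualNumber R)

theorem derivative_map' {A B : Type*} [CommRing A] [CommRing B] (φ : A →+* B) (f : A⟦X⟧) :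
    d⁄dX B (f.map φ) = (d⁄dX A f).map φ := by
  ext n
  rw [coeff_derivative, coeff_map, coeff_map, coeff_derivative, map_mul]
  simp

theorem X_mul_eq_zero {A : Type*} [CommRing A] (Q : A⟦X⟧) (h : X * Q = 0) : Q = 0 := by
  ext n
  rw [← coeff_succ_X_mul, h]
  simp

/-- `C ε * map Q = 0` forces `Q = 0` -/
theorem eq_zero_of_eps_mul (Q : R⟦X⟧) (h : C ε * Q.map (algebraMap R S) = 0) : Q = 0 := by
  ext n
  have h1 := congrArg (coeff n) h
  rw [coeff_C_mul, coeff_map, map_zero] at h1
  have h2 := congrArg TrivSqZeroExt.snd h1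
  rw [TrivSqZeroExt.snd_mul, TrivSqZeroExt.algebraMap_eq_inl, TrivSqZeroExt.snd_inl,
    TrivSqZeroExt.fst_inl, DualNumber.snd_eps, DualNumber.fst_eps, zero_smul, zero_add,
    TrivSqZeroExt.snd_zero] at h2
  simpa using h2

theorem subst_eq_map_subst (F : R⟦X⟧) (g : S⟦X⟧) (hg : HasSubst g) :
    PowerSeries.subst g F = PowerSeries.subst g (F.map (algebraMap R S)) := by
  rw [map_algebraMap_eq_subst_X F, PowerSeries.subst_comp_subst_apply HasSubst.X' hg,
    PowerSeries.subst_X hg]

theorem hasSubst_eps_X : HasSubst (C ε * X : S⟦X⟧) :=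
  HasSubst.of_constantCoeff_zero' (by simp)

theorem subst_eps_X (F : R⟦X⟧) (h0 : PowerSeries.constantCoeff F = 1) :
    PowerSeries.subst (C ε * X : S⟦X⟧) F =
      1 + C ε * (C (algebraMap R S (PowerSeries.coeff 1 F)) * X) := by
  rw [subst_eq_map_subst F _ hasSubst_eps_X, ← smul_eq_C_mul, ← rescale_eq_subst]
  refine PowerSeries.ext fun n => ?_
  rw [coeff_rescale, coeff_map]
  rcases n with _ | _ | n
  · simp [h0]
  · simp [PowerSeries.coeff_one, coeff_C_mul, coeff_X]
  · have : ε ^ (n + 1 + 1) = 0 := by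
      rw [pow_succ, pow_succ, mul_assoc, DualNumber.eps_mul_eps, mul_zero]
    rw [this, zero_mul]
    simp [PowerSeries.coeff_one, coeff_C_mul, coeff_X]

theorem eps_sq (Q : S⟦X⟧) : (C ε * Q) ^ 2 = 0 := by
  rw [mul_pow, ← map_pow, pow_two, DualNumber.eps_mul_eps, map_zero, zero_mul]

theorem main12056 (F : PowerSeries R)
    (h0 : PowerSeries.constantCoeff F = 1) (ha : IsUnit (PowerSeries.coeff 1 F))
    (hFE : PowerSeries.subst
        (MvPowerSeries.X (0 : Fin 2) + MvPowerSeries.X 1 * PowerSeries.subst (MvPowerSeries.X (0 : Fin 2)) F :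
          MvPowerSeries (Fin 2) R) F =
      PowerSeries.subst (MvPowerSeries.X (0 : Fin 2)) F * PowerSeries.subst (MvPowerSeries.X (1 : Fin 2)) F) :
    F = 1 + PowerSeries.C (PowerSeries.coeff 1 F) * PowerSeries.X := by
  set a := PowerSeries.coeff 1 F with hadef
  set H : S⟦X⟧ := F.map (algebraMap R S) with hH
  set a' : S := algebraMap R S a with ha'
  have hHX : PowerSeries.subst (X : S⟦X⟧) F = H := (map_algebraMap_eq_subst_X F).symm
  have hE := subst_eps_X F h0
  -- (I)
  have hI : X * (d⁄dX R F * F - C a * F) = 0 := by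
    have h1 := spec_FE (T := DualNumber R) F hFE ![X, C ε * X] (by
      intro i; fin_cases i
      · exact HasSubst.X'
      · exact hasSubst_eps_X)
    simp only [Matrix.cons_val_zero, Matrix.cons_val_one] at h1
    rw [hHX, hE] at h1
    have hy : (C ε * (X * H)) ^ 2 = 0 := eps_sq _
    have h2 : (X + C ε * X * H : S⟦X⟧) = X + C ε * (X * H) := by ring
    rw [h2, subst_eq_map_subst F _ (hasSubst_X_add _ hy), ← hH, taylor_sq_zero H _ hy] at h1
    have h3 : C ε * (d⁄dX S H * (X * H) - C a' * X * H) = 0 := by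
      have : H + d⁄dX S H * (C ε * (X * H)) - H * (1 + C ε * (C a' * X)) =
          C ε * (d⁄dX S H * (X * H) - C a' * X * H) := by ring
      rw [← this, h1, sub_self]
    apply eq_zero_of_eps_mul
    rw [← h3]
    congr 1
    rw [hH, derivative_map']
    simp only [map_mul, map_sub, PowerSeries.map_X, PowerSeries.map_C]
    ring
  -- (II)
  have hII : X * (d⁄dX R F * (1 + C a * X) - C a * F) = 0 := by
    have h1 := spec_FE (T := DualNumber R) F hFE ![C ε * X, X] (by
      intro i; fin_cases i
      · exact hasSubst_eps_X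
      · exact HasSubst.X')
    simp only [Matrix.cons_val_zero, Matrix.cons_val_one] at h1
    rw [hHX, hE] at h1
    have hy : (C ε * (X + C a' * X ^ 2)) ^ 2 = 0 := eps_sq _
    have h2 : (C ε * X + X * (1 + C ε * (C a' * X)) : S⟦X⟧) = X + C ε * (X + C a' * X ^ 2) := by
      ring
    rw [h2, subst_eq_map_subst F _ (hasSubst_X_add _ hy), ← hH, taylor_sq_zero H _ hy] at h1
    have h3 : C ε * (d⁄dX S H * (X + C a' * X ^ 2) - C a' * X * H) = 0 := by
      have : H + d⁄dX S H * (C ε * (X + C a' * X ^ 2)) - (1 + C ε * (C a' * X)) * H =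
          C ε * (d⁄dX S H * (X + C a' * X ^ 2) - C a' * X * H) := by ring
      rw [← this, h1, sub_self]
    apply eq_zero_of_eps_mul
    rw [← h3]
    congr 1
    rw [hH, derivative_map']
    simp only [map_mul, map_sub, map_add, map_one, PowerSeries.map_X, PowerSeries.map_C]
    ring
  have hI' := X_mul_eq_zero _ hI
  have hII' := X_mul_eq_zero _ hII
  have hFunit : IsUnit F := by
    rw [PowerSeries.isUnit_iff_constantCoeff, h0]; exact isUnit_one
  have hF' : d⁄dX R F = C a := by
    have : (d⁄dX R F - C a) * F = 0 := by rw [sub_mul]; exact hI'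
    have := hFunit.mul_left_eq_zero.mp this
    exact sub_eq_zero.mp this
  rw [hF'] at hII'
  have hCa : IsUnit (C a : R⟦X⟧) := ha.map _
  have : C a * (1 + C a * X - F) = 0 := by
    rw [← hII']; ring
  have := hCa.mul_right_eq_zero.mp this
  exact (sub_eq_zero.mp this).symm

end Dual

end Groth.Agent.Lib.Helper5.FunEq
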